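import Mathlib.Algebra.Homology.ShortComplex.ModuleCat
import Mathlib.Algebra.Homology.ShortComplex.HomologicalComplex
import Mathlib.Algebra.Category.ModuleCat.Abelian
import Mathlib.Algebra.Category.ModuleCat.EpiMono
import Mathlib.Algebra.Homology.QuasiIso

/-! Homology of chain complexes of modules, by elements. -/

set_option autoImplicit false

universe u v

open CategoryTheory

namespace Groth.L13.ChainCx

variable {R : Type u} [Ring R] (K : ChainComplex (ModuleCat.{v} R) ℕ)

theorem dd (i j k : ℕ) (x : K.X i) : (K.d j k).hom ((K.d i j).hom x) = 0 := by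
  exact LinearMap.congr_fun (congrArg ModuleCat.Hom.hom (K.d_comp_d i j k)) x

theorem comm {L : ChainComplex (ModuleCat.{v} R) ℕ} (f : K ⟶ L) (i j : ℕ) (x : K.X i) :
    (L.d i j).hom ((f.f i).hom x) = (f.f j).hom ((K.d i j).hom x) := by
  exact LinearMap.congr_fun (congrArg ModuleCat.Hom.hom (f.comm i j)) x

/-- the cycle predicate -/
def IsCycle (i : ℕ) (z : K.X i) : Prop := ∀ j, (K.d i j).hom z = 0

theorem isCycle_zero_degree (z : K.X 0) : IsCycle K 0 z := fun j => by
  rw [K.shape 0 j (by simp)]; rfl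

theorem isCycle_succ {i : ℕ} {z : K.X (i + 1)} (h : (K.d (i + 1) i).hom z = 0) : IsCycle K (i + 1) z := fun j => by
  by_cases hj : j = i
  · rw [hj]; exact h
  · rw [K.shape (i + 1) j (by simp; omega)]; rfl

theorem isCycle_d (i j : ℕ) (y : K.X i) : IsCycle K j ((K.d i j).hom y) := fun k => dd K i j k y

theorem exists_cycle (i : ℕ) (z : K.X i) (h : IsCycle K i z) : ∃ c : K.cycles i, (K.iCycles i).hom c = z := by
  refine ⟨(K.sc i).moduleCatCyclesIso.inv.hom ⟨z, h _⟩, ?_⟩
  have h2 := congrArg (fun φ => φ.hom (⟨z, h _⟩ : LinearMap.ker (K.sc i).g.hom))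
    (K.sc i).moduleCatCyclesIso_inv_iCycles
  exact h2

theorem isCycle_iCycles (i : ℕ) (c : K.cycles i) : IsCycle K i ((K.iCycles i).hom c) := fun j => by
  exact LinearMap.congr_fun (congrArg ModuleCat.Hom.hom (K.iCycles_d i j)) c

theorem iCycles_injective (i : ℕ) : Function.Injective (K.iCycles i).hom :=
  (ModuleCat.mono_iff_injective _).1 inferInstance

theorem homologyπ_surjective (i : ℕ) : Function.Surjective (K.homologyπ i).hom :=
  (ModuleCat.epi_iff_surjective _).1 inferInstance

/-- the homology class of a cycle -/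
noncomputable def cls (i : ℕ) (z : K.X i) (h : IsCycle K i z) : K.homology i :=
  (K.homologyπ i).hom (Classical.choose (exists_cycle K i z h))

theorem cls_surjective (i : ℕ) (x : K.homology i) : ∃ z h, cls K i z h = x := by
  obtain ⟨c, rfl⟩ := homologyπ_surjective K i x
  refine ⟨_, isCycle_iCycles K i c, ?_⟩
  exact congrArg _ (iCycles_injective K i (Classical.choose_spec (exists_cycle K i _ (isCycle_iCycles K i c))))

theorem cls_eq_zero_iff (i : ℕ) (z : K.X i) (h : IsCycle K i z) :
    cls K i z h = 0 ↔ ∃ y : K.X (i + 1), (K.d (i + 1) i).hom y = z := by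
  have hp : (ComplexShape.down ℕ).prev i = i + 1 := ChainComplex.prev ℕ i
  let S := ShortComplex.mk _ _ (K.toCycles_comp_homologyπ (i + 1) i)
  have hS : S.Exact := ShortComplex.exact_of_g_is_cokernel _ (K.homologyIsCokernel (i + 1) i hp)
  have hc := Classical.choose_spec (exists_cycle K i z h)
  constructor
  · intro h0
    obtain ⟨y, hy⟩ := (ShortComplex.moduleCat_exact_iff _).1 hS _ h0
    refine ⟨y, ?_⟩
    have h2 := congrArg (fun φ => φ.hom y) (K.toCycles_i (i + 1) i)
    simp only [ModuleCat.hom_comp, LinearMap.comp_apply] at h2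
    rw [← h2]
    exact (congrArg (K.iCycles i).hom hy).trans hc
  · rintro ⟨y, hy⟩
    have e : Classical.choose (exists_cycle K i z h) = (K.toCycles (i + 1) i).hom y := by
      apply iCycles_injective K i
      rw [hc, ← hy]
      exact (LinearMap.congr_fun (congrArg ModuleCat.Hom.hom (K.toCycles_i (i + 1) i)) y).symm
    rw [cls, e]
    exact LinearMap.congr_fun (congrArg ModuleCat.Hom.hom (K.toCycles_comp_homologyπ (i + 1) i)) y

theorem isCycle_sub {i : ℕ} {z w : K.X i} (hz : IsCycle K i z) (hw : IsCycle K i w) : IsCycle K i (z - w) := fun j => by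
  rw [map_sub, hz j, hw j, sub_zero]

theorem cls_sub (i : ℕ) (z w : K.X i) (hz : IsCycle K i z) (hw : IsCycle K i w) :
    cls K i (z - w) (isCycle_sub K hz hw) = cls K i z hz - cls K i w hw := by
  unfold cls
  rw [← map_sub]
  congr 1
  apply iCycles_injective K i
  rw [map_sub, Classical.choose_spec (exists_cycle K i z hz), Classical.choose_spec (exists_cycle K i w hw)]
  exact Classical.choose_spec (exists_cycle K i (z - w) (isCycle_sub K hz hw))

variable {K}

theorem isCycle_map {L : ChainComplex (ModuleCat.{v} R) ℕ} (f : K ⟶ L) {i : ℕ} {z : K.X i} (h : IsCycle K i z) :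
    IsCycle L i ((f.f i).hom z) := fun j => by rw [comm, h j, map_zero]

theorem map_cls {L : ChainComplex (ModuleCat.{v} R) ℕ} (f : K ⟶ L) (i : ℕ) (z : K.X i) (h : IsCycle K i z) :
    (HomologicalComplex.homologyMap f i).hom (cls K i z h) = cls L i ((f.f i).hom z) (isCycle_map f h) := by
  have h2 := congrArg (fun φ => φ.hom (Classical.choose (exists_cycle K i z h)))
    (HomologicalComplex.homologyπ_naturality f i)
  simp only [ModuleCat.hom_comp, LinearMap.comp_apply] at h2
  rw [cls, h2, cls]
  congr 1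
  apply iCycles_injective L i
  have h3 := congrArg (fun φ => φ.hom (Classical.choose (exists_cycle K i z h))) (HomologicalComplex.cyclesMap_i f i)
  simp only [ModuleCat.hom_comp, LinearMap.comp_apply] at h3
  rw [h3, Classical.choose_spec (exists_cycle K i z h), Classical.choose_spec (exists_cycle L i _ (isCycle_map f h))]

theorem mono_iff {L : ChainComplex (ModuleCat.{v} R) ℕ} (f : K ⟶ L) (i : ℕ) :
    Mono (HomologicalComplex.homologyMap f i) ↔ ∀ z, IsCycle K i z →
      (∃ y, (L.d (i + 1) i).hom y = (f.f i).hom z) → ∃ y, (K.d (i + 1) i).hom y = z := by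
  rw [ModuleCat.mono_iff_injective]
  constructor
  · intro hinj z hz h
    rw [← cls_eq_zero_iff K i z hz]
    apply hinj
    show (HomologicalComplex.homologyMap f i).hom _ = (HomologicalComplex.homologyMap f i).hom 0
    rw [map_cls, map_zero, cls_eq_zero_iff]
    exact h
  · intro H a b hab
    obtain ⟨z, hz, rfl⟩ := cls_surjective K i a
    obtain ⟨w, hw, rfl⟩ := cls_surjective K i b
    rw [← sub_eq_zero, ← cls_sub K i z w hz hw, cls_eq_zero_iff]
    refine H _ (isCycle_sub K hz hw) ?_
    rw [← cls_eq_zero_iff L i _ (isCycle_map f (isCycle_sub K hz hw)), ← map_cls f i (z - w) (isCycle_sub K hz hw), cls_sub K i z w hz hw,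
      map_sub, sub_eq_zero]
    exact hab

theorem epi_iff {L : ChainComplex (ModuleCat.{v} R) ℕ} (f : K ⟶ L) (i : ℕ) :
    Epi (HomologicalComplex.homologyMap f i) ↔ ∀ w, IsCycle L i w →
      ∃ z, IsCycle K i z ∧ ∃ y, (L.d (i + 1) i).hom y = w - (f.f i).hom z := by
  rw [ModuleCat.epi_iff_surjective]
  constructor
  · intro hs w hw
    obtain ⟨a, ha⟩ := hs (cls L i w hw)
    obtain ⟨z, hz, rfl⟩ := cls_surjective K i a
    refine ⟨z, hz, ?_⟩
    rw [← cls_eq_zero_iff L i _ (isCycle_sub L hw (isCycle_map f hz)),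
      cls_sub L i w _ hw (isCycle_map f hz), ← map_cls, sub_eq_zero]
    exact ha.symm
  · intro H b
    obtain ⟨w, hw, rfl⟩ := cls_surjective L i b
    obtain ⟨z, hz, hy⟩ := H w hw
    refine ⟨cls K i z hz, ?_⟩
    symm
    show cls L i w hw = (HomologicalComplex.homologyMap f i).hom _
    rw [map_cls, ← sub_eq_zero, ← cls_sub L i w _ hw (isCycle_map f hz), cls_eq_zero_iff]
    exact hy

theorem isIso_iff {L : ChainComplex (ModuleCat.{v} R) ℕ} (f : K ⟶ L) (i : ℕ) :
    IsIso (HomologicalComplex.homologyMap f i) ↔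
      Mono (HomologicalComplex.homologyMap f i) ∧ Epi (HomologicalComplex.homologyMap f i) :=
  ⟨fun _ => ⟨inferInstance, inferInstance⟩, fun ⟨_, _⟩ => isIso_of_mono_of_epi _⟩

end Groth.L13.ChainCx
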