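import Groth.Prelude.Def_W4c3biextchowCx
import Groth.Agent.L13.ChainCx.Elt

/-! The groupoid of a chain complex. -/

set_option autoImplicit false

universe u v

open CategoryTheory W4c3biextchow

namespace Groth.L13.ChainCx

variable {R : Type u} [Ring R] {C : ChainComplex (ModuleCat.{v} R) ℕ}

/-- a morphism from a degree-one element -/
def mkHom {a b : Obj C} (x : C.X 1) (h : (C.d 1 0).hom x = b.pt - a.pt) : a ⟶ b :=
  ⟨Submodule.Quotient.mk x, by rw [delta_mk, h]⟩

theorem exists_rep {a b : Obj C} (φ : a ⟶ b) :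
    ∃ x : C.X 1, (C.d 1 0).hom x = b.pt - a.pt ∧ (φ : Hom C a b).cl = Submodule.Quotient.mk x := by
  obtain ⟨x, hx⟩ := Submodule.Quotient.mk_surjective _ (φ : Hom C a b).cl
  exact ⟨x, by rw [← delta_mk, hx]; exact (φ : Hom C a b).delta_cl, hx.symm⟩

/-- every morphism is invertible -/
def homIso {a b : Obj C} (φ : Hom C a b) : a ≅ b where
  hom := φ
  inv := ⟨-φ.cl, by rw [map_neg, φ.delta_cl]; abel⟩
  hom_inv_id := Hom.ext (add_neg_cancel _)
  inv_hom_id := Hom.ext (neg_add_cancel _)

end Groth.L13.ChainCx
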