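import Groth.Agent.L13.ChainCx.Elt
import Mathlib.Algebra.Homology.Homotopy
import Mathlib.Algebra.Module.Projective
import Mathlib.LinearAlgebra.FreeModule.Basic

/-! Quasi-isomorphic degreewise split injections of complexes of projective modules split. -/

set_option autoImplicit false

universe u v

open CategoryTheory

namespace Groth.L13.ChainCx

variable {R : Type u} [Ring R]

theorem exists_lift_into_range {M N P : Type v} [AddCommGroup M] [Module R M] [AddCommGroup N] [Module R N]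
    [AddCommGroup P] [Module R P] [Module.Projective R P] (d : M →ₗ[R] N) (φ : P →ₗ[R] N)
    (h : ∀ x, φ x ∈ LinearMap.range d) : ∃ ψ : P →ₗ[R] M, ∀ x, d (ψ x) = φ x := by
  obtain ⟨ψ, hψ⟩ := Module.projective_lifting_property d.rangeRestrict (φ.codRestrict _ h)
    (LinearMap.surjective_rangeRestrict d)
  exact ⟨ψ, fun x => congrArg Subtype.val (LinearMap.congr_fun hψ x)⟩

variable (K : ChainComplex (ModuleCat.{v} R) ℕ)

/-- every cycle is a boundary -/
def Acyclic : Prop := ∀ q z, IsCycle K q z → ∃ y, (K.d (q + 1) q).hom y = z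

theorem exists_step [∀ q, Module.Projective R (K.X q)] (hK : Acyclic K) (q : ℕ)
    (s : {s : K.X q →ₗ[R] K.X (q + 1) //
      ∀ x, (K.d (q + 1) q).hom (s ((K.d (q + 1) q).hom x)) = (K.d (q + 1) q).hom x}) :
    ∃ t : {t : K.X (q + 1) →ₗ[R] K.X (q + 1 + 1) //
      ∀ x, (K.d (q + 1 + 1) (q + 1)).hom (t ((K.d (q + 1 + 1) (q + 1)).hom x)) = (K.d (q + 1 + 1) (q + 1)).hom x},
      ∀ x, (K.d (q + 1 + 1) (q + 1)).hom (t.1 x) + s.1 ((K.d (q + 1) q).hom x) = x := by
  obtain ⟨t, ht⟩ := exists_lift_into_range (K.d (q + 1 + 1) (q + 1)).hom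
    (LinearMap.id - s.1 ∘ₗ (K.d (q + 1) q).hom) (fun x => hK (q + 1) _ (isCycle_succ K (by
      show (K.d (q + 1) q).hom (x - s.1 ((K.d (q + 1) q).hom x)) = 0
      rw [map_sub, s.2, sub_self])))
  refine ⟨⟨t, fun x => ?_⟩, fun x => ?_⟩
  · rw [ht]
    show _ - s.1 _ = _
    rw [dd, map_zero, sub_zero]
    rfl
  · rw [ht]
    show x - s.1 _ + _ = x
    exact sub_add_cancel _ _

theorem exists_contraction [∀ q, Module.Projective R (K.X q)] (hK : Acyclic K) :
    ∃ s : ∀ q, K.X q →ₗ[R] K.X (q + 1), (∀ x, (K.d 1 0).hom (s 0 x) = x) ∧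
      ∀ q x, (K.d (q + 1 + 1) (q + 1)).hom (s (q + 1) x) + s q ((K.d (q + 1) q).hom x) = x := by
  obtain ⟨s₀, hs₀⟩ := exists_lift_into_range (K.d 1 0).hom LinearMap.id
    (fun x => hK 0 x (isCycle_zero_degree K x))
  choose step hstep using exists_step K hK
  let s : ∀ q, {s : K.X q →ₗ[R] K.X (q + 1) //
      ∀ x, (K.d (q + 1) q).hom (s ((K.d (q + 1) q).hom x)) = (K.d (q + 1) q).hom x} :=
    fun q => Nat.rec (motive := fun q => {s : K.X q →ₗ[R] K.X (q + 1) //
      ∀ x, (K.d (q + 1) q).hom (s ((K.d (q + 1) q).hom x)) = (K.d (q + 1) q).hom x})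
      ⟨s₀, fun x => hs₀ _⟩ step q
  exact ⟨fun q => (s q).1, hs₀, fun q x => hstep q (s q) x⟩

variable {K} {L : ChainComplex (ModuleCat.{v} R) ℕ}

/-- a homotopy between chain maps from degree raising maps -/
theorem exists_homotopy (g₁ g₂ : K ⟶ L) (H : ∀ q, K.X q →ₗ[R] L.X (q + 1))
    (h0 : ∀ x, (g₁.f 0).hom x - (g₂.f 0).hom x = (L.d 1 0).hom (H 0 x))
    (h1 : ∀ q x, (g₁.f (q + 1)).hom x - (g₂.f (q + 1)).hom x =
      H q ((K.d (q + 1) q).hom x) + (L.d (q + 1 + 1) (q + 1)).hom (H (q + 1) x)) :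
    ∃ h : Homotopy g₁ g₂, ∀ q, (h.hom q (q + 1)).hom = H q := by
  let hom : ∀ i j, K.X i ⟶ L.X j := fun i j => if h : i + 1 = j then h ▸ ModuleCat.ofHom (H i) else 0
  have hhom : ∀ q, hom q (q + 1) = ModuleCat.ofHom (H q) := fun q => by simp [hom]
  refine ⟨{ hom := hom, zero := fun i j h => dif_neg (fun e => h (by simpa using e)), comm := fun i => ?_ }, fun q => ?_⟩
  · rw [prevD_eq hom (show (ComplexShape.down ℕ).Rel (i + 1) i by simp), hhom]
    cases i with
    | zero =>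
      rw [dNext_eq_zero hom 0 (by simp)]
      ext x
      have := h0 x
      simp only [ModuleCat.hom_add, LinearMap.add_apply, ModuleCat.hom_comp, LinearMap.comp_apply, ModuleCat.hom_zero,
        LinearMap.zero_apply, ModuleCat.hom_ofHom, zero_add]
      rw [← this, sub_add_cancel]
    | succ i =>
      rw [dNext_eq hom (show (ComplexShape.down ℕ).Rel (i + 1) i by simp), hhom]
      ext x
      have := h1 i x
      simp only [ModuleCat.hom_add, LinearMap.add_apply, ModuleCat.hom_comp, LinearMap.comp_apply,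
        ModuleCat.hom_ofHom]
      rw [← this, sub_add_cancel]
  · show (hom q (q + 1)).hom = H q
    rw [hhom]; rfl

section Sequence

variable {A' A A'' : ChainComplex (ModuleCat.{v} R) ℕ} (f : A' ⟶ A) (p : A ⟶ A'')
  (hf : ∀ q, Function.Injective (f.f q).hom) (hp : ∀ q, Function.Surjective (p.f q).hom)
  (hfp : ∀ q, Function.Exact (f.f q).hom (p.f q).hom)

include hfp in
theorem p_f (q : ℕ) (b : A'.X q) : (p.f q).hom ((f.f q).hom b) = 0 := ((hfp q) _).2 ⟨b, rfl⟩

include hf hp hfp in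
theorem acyclic_quotient [QuasiIso f] : Acyclic A'' := by
  intro q z hz
  obtain ⟨a, rfl⟩ := hp q z
  have hiso : ∀ i, IsIso (HomologicalComplex.homologyMap f i) := fun i =>
    (quasiIsoAt_iff_isIso_homologyMap f i).1 inferInstance
  have hmem : ∀ j, ∃ b, (f.f j).hom b = (A.d q j).hom a := fun j => by
    refine ((hfp j) _).1 ?_
    rw [← comm]
    exact hz j
  suffices H : ∃ a', IsCycle A q a' ∧ (p.f q).hom a' = (p.f q).hom a by
    obtain ⟨a', ha', he⟩ := H
    obtain ⟨c, -, y, hy⟩ := (epi_iff f q).1 ((isIso_iff f q).1 (hiso q)).2 a' ha'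
    refine ⟨(p.f (q + 1)).hom y, ?_⟩
    rw [comm, hy, map_sub, p_f f p hfp, sub_zero, he]
  cases q with
  | zero => exact ⟨a, isCycle_zero_degree A a, rfl⟩
  | succ q =>
    obtain ⟨b, hb⟩ := hmem q
    have hbc : IsCycle A' q b := fun j => hf j (by rw [map_zero, ← comm, hb, dd])
    obtain ⟨c, hc⟩ := (mono_iff f q).1 ((isIso_iff f q).1 (hiso q)).1 b hbc ⟨a, hb.symm⟩
    refine ⟨a - (f.f (q + 1)).hom c, isCycle_succ A ?_, by rw [map_sub, p_f f p hfp, sub_zero]⟩
    rw [map_sub, comm, hc, hb, sub_self]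

include hf hp hfp in
/-- the projection has a chain level section, and the quotient is contractible -/
theorem exists_section [∀ q, Module.Projective R (A''.X q)] [QuasiIso f] :
    ∃ h : A'' ⟶ A, (∀ q x, (p.f q).hom ((h.f q).hom x) = x) ∧
      ∃ s : ∀ q, A''.X q →ₗ[R] A''.X (q + 1), (∀ x, (A''.d 1 0).hom (s 0 x) = x) ∧
        ∀ q x, (A''.d (q + 1 + 1) (q + 1)).hom (s (q + 1) x) + s q ((A''.d (q + 1) q).hom x) = x := by
  obtain ⟨s, hs0, hs⟩ := exists_contraction A'' (acyclic_quotient f p hf hp hfp)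
  choose σ hσ using fun q => Module.projective_lifting_property (p.f q).hom LinearMap.id (hp q)
  have hσ' : ∀ q x, (p.f q).hom (σ q x) = x := fun q x => LinearMap.congr_fun (hσ q) x
  let u : ∀ q, A''.X q →ₗ[R] A.X (q + 1) := fun q => σ (q + 1) ∘ₗ s q
  let η : ∀ q, A''.X q →ₗ[R] A.X q := fun q => match q with
    | 0 => (A.d 1 0).hom ∘ₗ u 0
    | q + 1 => (A.d (q + 1 + 1) (q + 1)).hom ∘ₗ u (q + 1) + u q ∘ₗ (A''.d (q + 1) q).hom
  have hη : ∀ q x, (A.d (q + 1) q).hom (η (q + 1) x) = η q ((A''.d (q + 1) q).hom x) := by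
    intro q x
    show (A.d (q + 1) q).hom ((A.d (q + 1 + 1) (q + 1)).hom (u (q + 1) x) + u q ((A''.d (q + 1) q).hom x)) = _
    rw [map_add, dd, zero_add]
    cases q with
    | zero => rfl
    | succ q =>
      show _ = (A.d (q + 1 + 1) (q + 1)).hom (u (q + 1) _) + u q _
      rw [dd, map_zero, add_zero]
  refine ⟨{ f := fun q => ModuleCat.ofHom (η q), comm' := fun i j hij => ?_ }, fun q x => ?_, s, hs0, hs⟩
  · obtain rfl : j + 1 = i := by simpa using hij
    ext x
    exact hη j x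
  · cases q with
    | zero =>
      show (p.f 0).hom ((A.d 1 0).hom (σ 1 (s 0 x))) = x
      rw [← comm, hσ', hs0]
    | succ q =>
      show (p.f (q + 1)).hom ((A.d (q + 1 + 1) (q + 1)).hom (σ (q + 1 + 1) (s (q + 1) x)) +
        σ (q + 1) (s q ((A''.d (q + 1) q).hom x))) = x
      rw [map_add, ← comm, hσ', hσ', hs]

include hf hp hfp in
theorem bijective_of_section (h : A'' ⟶ A) (hh : ∀ q x, (p.f q).hom ((h.f q).hom x) = x) (q : ℕ) :
    Function.Bijective (fun x : A''.X q × A'.X q => (h.f q).hom x.1 + (f.f q).hom x.2) := by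
  constructor
  · rintro ⟨x, b⟩ ⟨x', b'⟩ e
    have hx : x = x' := by simpa [hh, p_f f p hfp] using congrArg (p.f q).hom e
    subst hx
    exact Prod.ext rfl (hf q (add_left_cancel e))
  · intro a
    obtain ⟨b, hb⟩ := ((hfp q) (a - (h.f q).hom ((p.f q).hom a))).1 (by rw [map_sub, hh, sub_self])
    exact ⟨((p.f q).hom a, b), by show _ + (f.f q).hom b = a; rw [hb, add_sub_cancel]⟩

end Sequence

section Quotient

variable {A' A : ChainComplex (ModuleCat.{v} R) ℕ} (f : A' ⟶ A)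

theorem range_le_comap (i j : ℕ) :
    LinearMap.range (f.f i).hom ≤ (LinearMap.range (f.f j).hom).comap (A.d i j).hom := by
  rintro _ ⟨b, rfl⟩
  exact ⟨(A'.d i j).hom b, (comm A' f i j b).symm⟩

/-- the degreewise quotient complex -/
noncomputable def quot : ChainComplex (ModuleCat.{v} R) ℕ where
  X q := ModuleCat.of R (A.X q ⧸ LinearMap.range (f.f q).hom)
  d i j := ModuleCat.ofHom (Submodule.mapQ _ _ (A.d i j).hom (range_le_comap f i j))
  shape i j h := by
    ext x
    show Submodule.Quotient.mk ((A.d i j).hom x) = (0 : A.X j ⧸ LinearMap.range (f.f j).hom)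
    rw [A.shape i j h]
    rfl
  d_comp_d' i j k _ _ := by
    ext x
    show Submodule.Quotient.mk ((A.d j k).hom ((A.d i j).hom x)) = (0 : A.X k ⧸ LinearMap.range (f.f k).hom)
    rw [dd]
    rfl

/-- the projection -/
noncomputable def quotπ : A ⟶ quot f where
  f q := ModuleCat.ofHom (LinearMap.range (f.f q).hom).mkQ
  comm' i j _ := by ext x; rfl

theorem quotπ_surjective (q : ℕ) : Function.Surjective ((quotπ f).f q).hom := Submodule.mkQ_surjective _

theorem quotπ_exact (q : ℕ) : Function.Exact (f.f q).hom ((quotπ f).f q).hom :=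
  LinearMap.exact_iff.2 (Submodule.ker_mkQ _)

theorem exists_retraction (hf : ∀ q, Function.Injective (f.f q).hom)
    (hq : ∀ q, Module.Projective R (A.X q ⧸ LinearMap.range (f.f q).hom)) [QuasiIso f] : ∃ g : A ⟶ A', f ≫ g = 𝟙 A' := by
  haveI : ∀ q, Module.Projective R ((quot f).X q) := fun q =>
    hq q
  obtain ⟨h, hh, -⟩ := exists_section f (quotπ f) hf (quotπ_surjective f) (quotπ_exact f)
  let e := fun q => LinearEquiv.ofInjective (f.f q).hom (hf q)
  let π : ∀ q, A.X q →ₗ[R] A.X q := fun q => LinearMap.id - (h.f q).hom ∘ₗ ((quotπ f).f q).hom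
  have hπ : ∀ q a, π q a ∈ LinearMap.range (f.f q).hom := fun q a => by
    refine (quotπ_exact f q _).1 ?_
    show ((quotπ f).f q).hom (a - (h.f q).hom (((quotπ f).f q).hom a)) = 0
    rw [map_sub, hh, sub_self]
  let g : ∀ q, A.X q →ₗ[R] A'.X q := fun q => (e q).symm.toLinearMap ∘ₗ (π q).codRestrict _ (hπ q)
  have hg : ∀ q a, (f.f q).hom (g q a) = a - (h.f q).hom (((quotπ f).f q).hom a) := fun q a => by
    show ((e q) ((e q).symm _) : A.X q) = _
    rw [LinearEquiv.apply_symm_apply]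
    rfl
  refine ⟨{ f := fun q => ModuleCat.ofHom (g q), comm' := fun i j _ => ?_ }, ?_⟩
  · ext a
    show (A'.d i j).hom (g i a) = g j ((A.d i j).hom a)
    refine hf j ?_
    rw [← comm A' f, hg, hg, map_sub, comm (quot f) h, comm A (quotπ f)]
  · ext q b
    show g q ((f.f q).hom b) = b
    refine hf q ?_
    rw [hg, p_f f (quotπ f) (quotπ_exact f), map_zero, sub_zero]

theorem exists_homotopy_of_retractions (hf : ∀ q, Function.Injective (f.f q).hom)
    (hq : ∀ q, Module.Projective R (A.X q ⧸ LinearMap.range (f.f q).hom)) [QuasiIso f]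
    (g₁ g₂ : A ⟶ A') (h₁ : f ≫ g₁ = 𝟙 A') (h₂ : f ≫ g₂ = 𝟙 A') :
    ∃ H : Homotopy g₁ g₂, ∀ i j : ℕ, f.f i ≫ H.hom i j = 0 := by
  haveI : ∀ q, Module.Projective R ((quot f).X q) := fun q =>
    hq q
  obtain ⟨h, hh, s, hs0, hs⟩ := exists_section f (quotπ f) hf (quotπ_surjective f) (quotπ_exact f)
  let k : ∀ q, (quot f).X q →ₗ[R] A'.X q := fun q => ((g₁.f q).hom - (g₂.f q).hom) ∘ₗ (h.f q).hom
  have hk : ∀ q a, (g₁.f q).hom a - (g₂.f q).hom a = k q (((quotπ f).f q).hom a) := fun q a => by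
    obtain ⟨b, hb⟩ := (quotπ_exact f q (a - (h.f q).hom (((quotπ f).f q).hom a))).1 (by rw [map_sub, hh, sub_self])
    have e1 : (g₁.f q).hom ((f.f q).hom b) = b := LinearMap.congr_fun (congrArg (fun φ => (φ.f q).hom) h₁) b
    have e2 : (g₂.f q).hom ((f.f q).hom b) = b := LinearMap.congr_fun (congrArg (fun φ => (φ.f q).hom) h₂) b
    rw [hb, map_sub] at e1 e2
    show _ = (g₁.f q).hom _ - (g₂.f q).hom _
    rw [sub_eq_sub_iff_sub_eq_sub, e1, e2]
  have hkd : ∀ i j x, (A'.d i j).hom (k i x) = k j (((quot f).d i j).hom x) := fun i j x => by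
    show (A'.d i j).hom ((g₁.f i).hom _ - (g₂.f i).hom _) = (g₁.f j).hom _ - (g₂.f j).hom _
    rw [map_sub, comm A g₁, comm A g₂, comm (quot f) h]
  obtain ⟨H, hH⟩ := exists_homotopy g₁ g₂ (fun q => k (q + 1) ∘ₗ s q ∘ₗ ((quotπ f).f q).hom) (fun x => by
      show _ = (A'.d 1 0).hom (k 1 (s 0 _))
      rw [hkd, hs0, hk]) (fun q x => by
      show _ = k (q + 1) (s q _) + (A'.d (q + 1 + 1) (q + 1)).hom (k (q + 1 + 1) (s (q + 1) _))
      rw [hkd, ← map_add, ← comm, add_comm (s q _), hs, hk])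
  refine ⟨H, fun i j => ?_⟩
  by_cases hij : i + 1 = j
  · subst hij
    ext b
    show (H.hom i (i + 1)).hom ((f.f i).hom b) = 0
    rw [hH]
    show k (i + 1) (s i _) = 0
    rw [p_f f (quotπ f) (quotπ_exact f), map_zero, map_zero]
  · rw [H.zero i j (by simpa using hij), Limits.comp_zero]

end Quotient

end Groth.L13.ChainCx
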