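import Groth.Agent.L13.ChainCx.Elt
import Mathlib.Algebra.Homology.Monoidal
import Mathlib.Algebra.Category.ModuleCat.Monoidal.Basic
import Mathlib.Algebra.Category.ModuleCat.Colimits
import Mathlib.Algebra.Homology.Single
import Mathlib.LinearAlgebra.TensorProduct.RightExactness
import Mathlib.RingTheory.Flat.Basic

/-! Tensor products of chain complexes by elements, in low degrees. -/

set_option autoImplicit false

universe v

open CategoryTheory MonoidalCategory TensorProduct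

namespace Groth.L13.ChainCx

variable {R : Type v} [CommRing R] (C D : ChainComplex (ModuleCat.{v} R) ℕ)

/-- the inclusion of a summand -/
noncomputable def tι (i j n : ℕ) (h : i + j = n) : (C.X i ⊗[R] D.X j) →ₗ[R] (C ⊗ D).X n :=
  (HomologicalComplex.ιTensorObj C D i j n h).hom

theorem span_tι (n : ℕ) : (⨆ (i : ℕ) (j : ℕ) (h : i + j = n), LinearMap.range (tι C D i j n h)) = ⊤ := by
  set S := ⨆ (i : ℕ) (j : ℕ) (h : i + j = n), LinearMap.range (tι C D i j n h)
  have h0 : ModuleCat.ofHom (Y := (C ⊗ D).X n ⧸ S) S.mkQ = 0 := by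
    refine HomologicalComplex.mapBifunctor.hom_ext fun i j h => ?_
    rw [Limits.comp_zero]
    ext x
    refine (Submodule.Quotient.mk_eq_zero S).2 ?_
    exact Submodule.mem_iSup_of_mem i (Submodule.mem_iSup_of_mem j (Submodule.mem_iSup_of_mem h ⟨x, rfl⟩))
  rw [eq_top_iff]
  intro x _
  rw [← Submodule.Quotient.mk_eq_zero]
  exact LinearMap.congr_fun (congrArg ModuleCat.Hom.hom h0) x

/-- the projection to a summand -/
noncomputable def tπ (i j n : ℕ) : (C ⊗ D).X n →ₗ[R] (C.X i ⊗[R] D.X j) :=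
  (HomologicalComplex.mapBifunctorDesc (K₁ := C) (K₂ := D) (F := curriedTensor (ModuleCat.{v} R))
    (c := ComplexShape.down ℕ) (A := C.X i ⊗ D.X j) (j := n) fun i' j' _ =>
    if h : i' = i ∧ j' = j then eqToHom (by rw [h.1, h.2]; rfl) else 0).hom

theorem tπ_tι (i j n : ℕ) (h : i + j = n) (x : C.X i ⊗[R] D.X j) : tπ C D i j n (tι C D i j n h x) = x := by
  have e : HomologicalComplex.ιTensorObj C D i j n h ≫ ModuleCat.ofHom (tπ C D i j n) = 𝟙 (C.X i ⊗ D.X j) := by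
    refine (HomologicalComplex.ι_mapBifunctorDesc (K₁ := C) (K₂ := D) (F := curriedTensor (ModuleCat.{v} R))
      (c := ComplexShape.down ℕ) (A := C.X i ⊗ D.X j) _ i j h).trans ?_
    exact dif_pos ⟨rfl, rfl⟩
  exact LinearMap.congr_fun (congrArg ModuleCat.Hom.hom e) x

theorem tι_injective (i j n : ℕ) (h : i + j = n) : Function.Injective (tι C D i j n h) :=
  Function.LeftInverse.injective (tπ_tι C D i j n h)

theorem tπ_tι_ne (i j i' j' n : ℕ) (h : i' + j' = n) (hne : ¬ (i' = i ∧ j' = j)) (x : C.X i' ⊗[R] D.X j') :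
    tπ C D i j n (tι C D i' j' n h x) = 0 := by
  have e : HomologicalComplex.ιTensorObj C D i' j' n h ≫ ModuleCat.ofHom (tπ C D i j n) = 0 := by
    refine (HomologicalComplex.ι_mapBifunctorDesc (K₁ := C) (K₂ := D) (F := curriedTensor (ModuleCat.{v} R))
      (c := ComplexShape.down ℕ) (A := C.X i ⊗ D.X j) _ i' j' h).trans ?_
    exact dif_neg hne
  exact LinearMap.congr_fun (congrArg ModuleCat.Hom.hom e) x

/-- the differential on a summand, in the first variable -/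
noncomputable def sgn₁ (i j : ℕ) : ℤˣ := ComplexShape.ε₁ (ComplexShape.down ℕ) (ComplexShape.down ℕ) (ComplexShape.down ℕ) (i, j)

/-- the sign in the second variable -/
noncomputable def sgn₂ (i j : ℕ) : ℤˣ := ComplexShape.ε₂ (ComplexShape.down ℕ) (ComplexShape.down ℕ) (ComplexShape.down ℕ) (i, j)

theorem td_tι (i j n m : ℕ) (h : i + j = n) (hm : m + 1 = n) (x : C.X i ⊗[R] D.X j) :
    ((C ⊗ D).d n m).hom (tι C D i j n h x) =
      (HomologicalComplex.mapBifunctor.d₁ C D (curriedTensor (ModuleCat.{v} R)) (ComplexShape.down ℕ) i j m).hom x +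
      (HomologicalComplex.mapBifunctor.d₂ C D (curriedTensor (ModuleCat.{v} R)) (ComplexShape.down ℕ) i j m).hom x := by
  have e : HomologicalComplex.ιMapBifunctor C D (curriedTensor (ModuleCat.{v} R)) (ComplexShape.down ℕ) i j n h ≫
      (HomologicalComplex.mapBifunctor C D (curriedTensor (ModuleCat.{v} R)) (ComplexShape.down ℕ)).d n m =
      HomologicalComplex.mapBifunctor.d₁ C D (curriedTensor (ModuleCat.{v} R)) (ComplexShape.down ℕ) i j m +
        HomologicalComplex.mapBifunctor.d₂ C D (curriedTensor (ModuleCat.{v} R)) (ComplexShape.down ℕ) i j m := by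
    rw [HomologicalComplex.mapBifunctor.d_eq, Preadditive.comp_add, HomologicalComplex.mapBifunctor.ι_D₁,
      HomologicalComplex.mapBifunctor.ι_D₂]
  exact LinearMap.congr_fun (congrArg ModuleCat.Hom.hom e) x

theorem d₁_apply (i j m : ℕ) (h : i + j = m) (x : C.X (i + 1) ⊗[R] D.X j) :
    (HomologicalComplex.mapBifunctor.d₁ C D (curriedTensor (ModuleCat.{v} R)) (ComplexShape.down ℕ) (i + 1) j m).hom x =
      sgn₁ (i + 1) j • tι C D i j m h ((C.d (i + 1) i).hom.rTensor _ x) := by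
  rw [HomologicalComplex.mapBifunctor.d₁_eq C D _ _ (show (ComplexShape.down ℕ).Rel (i + 1) i by simp) j m h]
  rfl

theorem d₂_apply (i j m : ℕ) (h : i + j = m) (x : C.X i ⊗[R] D.X (j + 1)) :
    (HomologicalComplex.mapBifunctor.d₂ C D (curriedTensor (ModuleCat.{v} R)) (ComplexShape.down ℕ) i (j + 1) m).hom x =
      sgn₂ i (j + 1) • tι C D i j m h ((D.d (j + 1) j).hom.lTensor _ x) := by
  rw [HomologicalComplex.mapBifunctor.d₂_eq C D _ _ i (show (ComplexShape.down ℕ).Rel (j + 1) j by simp) m h]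
  rfl

theorem d₁_zero_apply (j m : ℕ) (x : C.X 0 ⊗[R] D.X j) :
    (HomologicalComplex.mapBifunctor.d₁ C D (curriedTensor (ModuleCat.{v} R)) (ComplexShape.down ℕ) 0 j m).hom x = 0 := by
  rw [HomologicalComplex.mapBifunctor.d₁_eq_zero C D _ _ 0 j m (by simp)]
  rfl

theorem d₂_zero_apply (i m : ℕ) (x : C.X i ⊗[R] D.X 0) :
    (HomologicalComplex.mapBifunctor.d₂ C D (curriedTensor (ModuleCat.{v} R)) (ComplexShape.down ℕ) i 0 m).hom x = 0 := by
  rw [HomologicalComplex.mapBifunctor.d₂_eq_zero C D _ _ i 0 m (by simp)]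
  rfl

theorem td_left (i m : ℕ) (h : i + 1 + 0 = m + 1) (x : C.X (i + 1) ⊗[R] D.X 0) :
    ((C ⊗ D).d (m + 1) m).hom (tι C D (i + 1) 0 (m + 1) h x) =
      sgn₁ (i + 1) 0 • tι C D i 0 m (by omega) ((C.d (i + 1) i).hom.rTensor _ x) := by
  rw [td_tι C D _ _ _ m h rfl, d₂_zero_apply, add_zero, d₁_apply C D i 0 m (by omega)]

theorem td_right (j m : ℕ) (h : 0 + (j + 1) = m + 1) (x : C.X 0 ⊗[R] D.X (j + 1)) :
    ((C ⊗ D).d (m + 1) m).hom (tι C D 0 (j + 1) (m + 1) h x) =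
      sgn₂ 0 (j + 1) • tι C D 0 j m (by omega) ((D.d (j + 1) j).hom.lTensor _ x) := by
  rw [td_tι C D _ _ _ m h rfl, d₁_zero_apply, zero_add, d₂_apply C D 0 j m (by omega)]

theorem td_mid (x : C.X 1 ⊗[R] D.X 1) :
    ((C ⊗ D).d 2 1).hom (tι C D 1 1 2 rfl x) =
      sgn₁ 1 1 • tι C D 0 1 1 rfl ((C.d 1 0).hom.rTensor _ x) + sgn₂ 1 1 • tι C D 1 0 1 rfl ((D.d 1 0).hom.lTensor _ x) := by
  rw [td_tι C D 1 1 2 1 rfl rfl, d₁_apply C D 0 1 1 rfl, d₂_apply C D 1 0 1 rfl]

theorem exists_decomp_one (z : (C ⊗ D).X 1) :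
    ∃ x y, z = tι C D 1 0 1 rfl x + tι C D 0 1 1 rfl y := by
  have hz : z ∈ LinearMap.range (tι C D 1 0 1 rfl) ⊔ LinearMap.range (tι C D 0 1 1 rfl) := by
    refine (iSup_le fun i => iSup_le fun j => iSup_le fun h => ?_ :
      (⨆ (i : ℕ) (j : ℕ) (h : i + j = 1), LinearMap.range (tι C D i j 1 h)) ≤ _) ((span_tι C D 1).symm ▸ Submodule.mem_top)
    rcases (show (i = 1 ∧ j = 0) ∨ (i = 0 ∧ j = 1) by omega) with ⟨rfl, rfl⟩ | ⟨rfl, rfl⟩
    · exact le_sup_left
    · exact le_sup_right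
  obtain ⟨_, ⟨x, rfl⟩, _, ⟨y, rfl⟩, rfl⟩ := Submodule.mem_sup.1 hz
  exact ⟨x, y, rfl⟩

variable {C D} {D' : ChainComplex (ModuleCat.{v} R) ℕ}

theorem whisker_tι (g : D ⟶ D') (i j n : ℕ) (h : i + j = n) (x : C.X i ⊗[R] D.X j) :
    ((C ◁ g).f n).hom (tι C D i j n h x) = tι C D' i j n h ((g.f j).hom.lTensor _ x) := by
  have e := HomologicalComplex.ι_mapBifunctorMap (𝟙 C) g (curriedTensor (ModuleCat.{v} R)) (ComplexShape.down ℕ) i j n h
  refine (LinearMap.congr_fun (congrArg ModuleCat.Hom.hom e) x).trans ?_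
  show tι C D' i j n h (((g.f j).hom.lTensor _) (((𝟙 (C.X i) : C.X i ⟶ C.X i).hom.rTensor _) x)) = _
  rw [ModuleCat.hom_id, LinearMap.rTensor_id, LinearMap.id_apply]

theorem isIso_homologyMap_one (π : D ⟶ D') [Module.Flat R (C.X 0)]
    (hsub : ∀ j, 0 < j → ∀ y : D'.X j, y = 0)
    (hsurj : Function.Surjective (π.f 0).hom) (hex0 : Function.Exact (D.d 1 0).hom (π.f 0).hom)
    (hex1 : Function.Exact (D.d 2 1).hom (D.d 1 0).hom) :
    IsIso (HomologicalComplex.homologyMap (C ◁ π) 1) := by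
  have hT : ∀ i j n h (x : C.X i ⊗[R] D'.X j), 0 < j → tι C D' i j n h x = 0 := fun i j n h x hj => by
    haveI : Subsingleton (D'.X j) := ⟨fun a b => (hsub j hj a).trans (hsub j hj b).symm⟩
    haveI : Subsingleton (C.X i ⊗[R] D'.X j) := ⟨fun a b => by
      have hz : ∀ t : C.X i ⊗[R] D'.X j, t = 0 := fun t => by
        induction t with
        | zero => rfl
        | tmul c y => rw [hsub j hj y, TensorProduct.tmul_zero]
        | add a b ha hb => rw [ha, hb, add_zero]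
      rw [hz a, hz b]⟩
    rw [Subsingleton.elim x 0, map_zero]
  rw [isIso_iff, mono_iff, epi_iff]
  constructor
  · rintro z hz ⟨w, hw⟩
    obtain ⟨x, y, rfl⟩ := exists_decomp_one C D z
    obtain ⟨w₂, hw₂⟩ : ∃ w₂, w = tι C D' 2 0 2 rfl w₂ := by
      have hmem : w ∈ LinearMap.range (tι C D' 2 0 2 rfl) := by
        refine (iSup_le fun i => iSup_le fun j => iSup_le fun h => ?_ :
          (⨆ (i : ℕ) (j : ℕ) (h : i + j = 2), LinearMap.range (tι C D' i j 2 h)) ≤ _) ((span_tι C D' 2).symm ▸ Submodule.mem_top)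
        rintro _ ⟨t, rfl⟩
        rcases Nat.eq_zero_or_pos j with rfl | hj
        · obtain rfl : i = 2 := h
          exact ⟨t, rfl⟩
        · rw [hT i j 2 h t hj]; exact zero_mem _
      obtain ⟨t, ht⟩ := hmem
      exact ⟨t, ht.symm⟩
    subst hw₂
    rw [td_left C D' 1 1 rfl, map_add, whisker_tι, whisker_tι, hT 0 1 1 rfl _ one_pos] at hw
    simp only [add_zero] at hw
    have hx : sgn₁ 2 0 • (C.d 2 1).hom.rTensor _ w₂ = (π.f 0).hom.lTensor _ x := by
      have := congrArg (tπ C D' 1 0 1) hw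
      rwa [LinearMap.map_smul_of_tower, tπ_tι, tπ_tι] at this
    obtain ⟨wl, rfl⟩ := LinearMap.lTensor_surjective (C.X 2) hsurj w₂
    have hx' : (π.f 0).hom.lTensor _ (x - sgn₁ 2 0 • (C.d 2 1).hom.rTensor _ wl) = 0 := by
      rw [map_sub, LinearMap.map_smul_of_tower, ← hx, sub_eq_zero, ← LinearMap.comp_apply, ← LinearMap.comp_apply,
        LinearMap.rTensor_comp_lTensor, LinearMap.lTensor_comp_rTensor]
    obtain ⟨v, hv⟩ := (lTensor_exact (C.X 1) hex0 hsurj _).1 hx'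
    let y' := y - (sgn₂ 1 1)⁻¹ • (sgn₁ 1 1 • (C.d 1 0).hom.rTensor _ v)
    have key : tι C D 1 0 1 rfl x + tι C D 0 1 1 rfl y =
        ((C ⊗ D).d 2 1).hom (tι C D 2 0 2 rfl wl + (sgn₂ 1 1)⁻¹ • tι C D 1 1 2 rfl v) + tι C D 0 1 1 rfl y' := by
      rw [map_add, LinearMap.map_smul_of_tower, td_mid, td_left C D 1 1 rfl, smul_add, inv_smul_smul, hv,
        map_sub, map_sub, LinearMap.map_smul_of_tower, LinearMap.map_smul_of_tower, LinearMap.map_smul_of_tower]
      abel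
    have hy' : (D.d 1 0).hom.lTensor _ y' = 0 := by
      have h0 := hz 0
      rw [key, map_add, dd, zero_add, td_right C D 0 0 rfl, smul_eq_zero_iff_eq] at h0
      exact tι_injective C D 0 0 0 rfl (h0.trans (map_zero _).symm)
    obtain ⟨t, ht⟩ := (Module.Flat.lTensor_exact (C.X 0) hex1 y').1 hy'
    refine ⟨(tι C D 2 0 2 rfl wl + (sgn₂ 1 1)⁻¹ • tι C D 1 1 2 rfl v) + (sgn₂ 0 2)⁻¹ • tι C D 0 2 2 rfl t, ?_⟩
    rw [key, map_add, LinearMap.map_smul_of_tower _ ((sgn₂ 0 2)⁻¹), td_right C D 1 1 rfl, inv_smul_smul, ht]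
  · intro w hw
    obtain ⟨w₁, w₀, rfl⟩ := exists_decomp_one C D' w
    rw [hT 0 1 1 rfl w₀ one_pos] at hw ⊢
    simp only [add_zero] at hw ⊢
    obtain ⟨x, rfl⟩ := LinearMap.lTensor_surjective (C.X 1) hsurj w₁
    have h0 : (π.f 0).hom.lTensor _ ((C.d 1 0).hom.rTensor _ x) = 0 := by
      have h1 := hw 0
      rw [td_left C D' 0 0 rfl, smul_eq_zero_iff_eq] at h1
      have h2 := tι_injective C D' 0 0 0 rfl (h1.trans (map_zero _).symm)
      rw [← LinearMap.comp_apply, LinearMap.rTensor_comp_lTensor] at h2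
      rw [← LinearMap.comp_apply, LinearMap.lTensor_comp_rTensor]
      exact h2
    obtain ⟨y, hy⟩ := (lTensor_exact (C.X 0) hex0 hsurj _).1 h0
    refine ⟨tι C D 1 0 1 rfl x + tι C D 0 1 1 rfl (-((sgn₂ 0 1)⁻¹ • (sgn₁ 1 0 • y))), isCycle_succ _ ?_, 0, ?_⟩
    · rw [map_add, td_left C D 0 0 rfl, td_right C D 0 0 rfl, map_neg, LinearMap.map_smul_of_tower,
        LinearMap.map_smul_of_tower, hy, map_neg, LinearMap.map_smul_of_tower, LinearMap.map_smul_of_tower,
        smul_neg, smul_inv_smul, add_neg_cancel]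
    · rw [map_zero, map_add, whisker_tι, whisker_tι, hT 0 1 1 rfl _ one_pos]
      simp only [add_zero, sub_self]

end Groth.L13.ChainCx
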